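import Groth.Agent.Lib.CatenarySch12.Basic
import Mathlib.Topology.NoetherianSpace
import Mathlib.Topology.Sober

/-!
# Dimension functions on catenary Noetherian sober spaces
-/

universe u

set_option autoImplicit false
set_option linter.style.haveILetI false
set_option backward.isDefEq.respectTransparency.types false

open TopologicalSpace Topology

namespace Groth.Agent.CatenarySch12

open PtSet

variable {X : Type u} [TopologicalSpace X]

/-- The closure of a point. -/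
def cl (x : X) : IrreducibleCloseds X := ⟨closure {x}, isIrreducible_singleton.closure, isClosed_closure⟩

lemma cl_le_iff {x : X} {T : IrreducibleCloseds X} : cl x ≤ T ↔ x ∈ T :=
  ⟨fun h => h (subset_closure rfl), fun h => closure_minimal (Set.singleton_subset_iff.2 h) T.isClosed⟩

theorem exists_dimensionFunction [NoetherianSpace X] [T0Space X] [QuasiSober X]
    (hc : PtTop.IsCatenarySpace X) (s : X) :
    ∃ V : Opens X, s ∈ V ∧ ∃ δ : V → ℤ, PtTop.IsDimensionFunction δ := by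
  classical
  rw [PtSet.isCatenarySpace_iff, isCatenaryOrder_iff] at hc
  obtain ⟨hfin, hadd⟩ := hc
  let Cs := irreducibleComponents X
  have hCs : Cs.Finite := NoetherianSpace.finite_irreducibleComponents
  have hdec : ∀ p : Set X × Set X, p ∈ Cs ×ˢ Cs → ∃ S : Finset (IrreducibleCloseds X),
      (∀ x, x ∈ p.1 ∩ p.2 ↔ ∃ W ∈ S, x ∈ W) := by
    rintro ⟨Z, Z'⟩ ⟨hZ, hZ'⟩
    obtain ⟨S, hSf, hSc, hSi, hS⟩ := NoetherianSpace.exists_finite_set_isClosed_irreducible
      ((isClosed_of_mem_irreducibleComponents Z hZ).inter (isClosed_of_mem_irreducibleComponents Z' hZ'))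
    refine ⟨hSf.toFinset.attach.image fun W => ⟨W.1, hSi _ (hSf.mem_toFinset.1 W.2),
      hSc _ (hSf.mem_toFinset.1 W.2)⟩, fun x => ?_⟩
    simp only [hS, Set.mem_sUnion]
    constructor
    · rintro ⟨W, hW, hxW⟩
      exact ⟨_, Finset.mem_image.2 ⟨⟨W, hSf.mem_toFinset.2 hW⟩, Finset.mem_attach _ _, rfl⟩, hxW⟩
    · rintro ⟨_, hW, hxW⟩
      obtain ⟨W, -, rfl⟩ := Finset.mem_image.1 hW
      exact ⟨W.1, hSf.mem_toFinset.1 W.2, hxW⟩
  choose S hS using hdec
  let B : Set X := ⋃ p : {p : Set X × Set X // p ∈ hCs.toFinset ×ˢ hCs.toFinset},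
    ⋃ W ∈ (S p.1 ⟨hCs.mem_toFinset.1 (Finset.mem_product.1 p.2).1, hCs.mem_toFinset.1 (Finset.mem_product.1 p.2).2⟩).filter (fun W => s ∉ W), (W : Set X)
  have hB : IsClosed B := isClosed_iUnion_of_finite fun p =>
    Set.Finite.isClosed_biUnion (Finset.finite_toSet _) fun W _ => W.isClosed
  let V : Opens X := ⟨Bᶜ, hB.isOpen_compl⟩
  have hsV : s ∈ V := fun h => by
    obtain ⟨p, hp⟩ := Set.mem_iUnion.1 h
    obtain ⟨W, hW, hsW⟩ := Set.mem_iUnion₂.1 hp
    exact (Finset.mem_filter.1 hW).2 hsW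
  have hmeet : ∀ x ∈ V, ∀ Z ∈ Cs, ∀ Z' ∈ Cs, x ∈ Z → x ∈ Z' →
      ∃ W : IrreducibleCloseds X, x ∈ W ∧ s ∈ W ∧ (W : Set X) ⊆ Z ∧ (W : Set X) ⊆ Z' := by
    intro x hx Z hZ Z' hZ' hxZ hxZ'
    obtain ⟨W, hW, hxW⟩ := (hS (Z, Z') ⟨hZ, hZ'⟩ x).1 ⟨hxZ, hxZ'⟩
    refine ⟨W, hxW, ?_, fun y hy => ((hS (Z, Z') ⟨hZ, hZ'⟩ y).2 ⟨W, hW, hy⟩).1,
      fun y hy => ((hS (Z, Z') ⟨hZ, hZ'⟩ y).2 ⟨W, hW, hy⟩).2⟩
    by_contra hsW
    exact hx (Set.mem_iUnion.2 ⟨⟨(Z, Z'), by simp [hZ, hZ']⟩,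
      Set.mem_iUnion₂.2 ⟨W, Finset.mem_filter.2 ⟨hW, hsW⟩, hxW⟩⟩)
  let K : ∀ Z : Set X, Z ∈ Cs → IrreducibleCloseds X := fun Z hZ =>
    ⟨Z, hZ.1, isClosed_of_mem_irreducibleComponents Z hZ⟩
  let e : IrreducibleCloseds X → IrreducibleCloseds X → ℤ := fun a b => ((codimO a b).toNat : ℤ)
  have eadd : ∀ a b c, a ≤ b → b ≤ c → e a c = e a b + e b c := fun a b c hab hbc => by
    simp only [e, hadd a b c hab hbc, ENat.toNat_add (hfin a b hab) (hfin b c hbc), Nat.cast_add]
  have epos : ∀ a b, a < b → 0 < e a b := fun a b hab => by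
    have h1 : (1 : ℕ∞) ≤ codimO a b := by
      have := le_codimO (s := (RelSeries.singleton _ a).snoc b hab) (a := a) (b := b) (by simp) (by simp)
      simpa using this
    have h2 : (codimO a b).toNat ≠ 0 := fun h0 => by
      rcases ENat.toNat_eq_zero.1 h0 with h | h
      · rw [h] at h1; simp at h1
      · exact hfin a b hab.le h
    simp only [e]
    omega
  have hex : ∀ x : V, ∃ Z ∈ Cs, (x : X) ∈ Z := fun x =>
    ⟨irreducibleComponent (x : X), irreducibleComponent_mem_irreducibleComponents _, mem_irreducibleComponent⟩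
  choose Zc hZc hxZc using hex
  refine ⟨V, hsV, fun x => e (cl s) (K _ (hZc x)) - e (cl x.1) (K _ (hZc x)), ?_⟩
  have hwd : ∀ (x : V) (Z : Set X) (hZ : Z ∈ Cs), (x : X) ∈ Z →
      e (cl s) (K _ (hZc x)) - e (cl x.1) (K _ (hZc x)) = e (cl s) (K Z hZ) - e (cl x.1) (K Z hZ) := by
    intro x Z hZ hxZ
    obtain ⟨W, hxW, hsW, hW1, hW2⟩ := hmeet x.1 x.2 _ (hZc x) Z hZ (hxZc x) hxZ
    rw [eadd _ W _ (cl_le_iff.2 hsW) hW1, eadd _ W (K Z hZ) (cl_le_iff.2 hsW) hW2,
      eadd _ W _ (cl_le_iff.2 hxW) hW1, eadd _ W (K Z hZ) (cl_le_iff.2 hxW) hW2]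
    ring
  have hsub : ∀ (x y : V), x ⤳ y → e (cl s) (K _ (hZc y)) - e (cl y.1) (K _ (hZc y)) =
      e (cl s) (K _ (hZc x)) - e (cl x.1) (K _ (hZc x)) - e (cl y.1) (cl x.1) := by
    intro x y hxy
    have hxy' : (x : X) ⤳ y := hxy.map continuous_subtype_val
    have hyZ : (y : X) ∈ Zc x :=
      hxy'.mem_closed (isClosed_of_mem_irreducibleComponents _ (hZc x)) (hxZc x)
    rw [hwd y _ (hZc x) hyZ, eadd (cl y.1) (cl x.1) (K _ (hZc x)) (cl_le_iff.2 hxy'.mem_closure)
      (cl_le_iff.2 (hxZc x))]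
    ring
  have hlt : ∀ (x y : V), x ⤳ y → x ≠ y → cl y.1 < cl x.1 := fun x y hxy hne => by
    refine lt_of_le_of_ne (cl_le_iff.2 (hxy.map continuous_subtype_val).mem_closure) fun h => hne ?_
    exact Subtype.ext (inseparable_iff_closure_eq.2
      (congrArg (fun T : IrreducibleCloseds X => (T : Set X)) h).symm).eq
  refine ⟨fun x y hxy hne => ?_, fun x y hxy => ?_⟩
  · dsimp only
    rw [hsub x y hxy]
    linarith [epos _ _ (hlt x y hxy hne)]
  · obtain ⟨hxy, hne, hmid⟩ := hxy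
    have hcov : cl y.1 ⋖ cl x.1 := by
      refine ⟨hlt x y hxy hne, fun T h1 h2 => ?_⟩
      obtain ⟨z, hz⟩ := QuasiSober.sober T.isIrreducible T.isClosed
      have hzy : z ⤳ y.1 := hz.specializes (h1.le (subset_closure rfl))
      have hxz : x.1 ⤳ z := specializes_iff_mem_closure.2 (h2.le hz.mem)
      have hzV : z ∈ V := hzy.mem_open V.2 y.2
      have hT : T = cl z := IrreducibleCloseds.ext hz.def.symm
      rcases hmid ⟨z, hzV⟩ (subtype_specializes_iff x ⟨z, hzV⟩ |>.2 hxz)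
        (subtype_specializes_iff (⟨z, hzV⟩ : V) y |>.2 hzy) with h | h
      · exact h2.ne (hT.trans (congrArg (fun v : V => cl v.1) h))
      · exact h1.ne' (hT.trans (congrArg (fun v : V => cl v.1) h))
    dsimp only
    rw [hsub x y hxy]
    have : e (cl y.1) (cl x.1) = 1 := by
      simp only [e, codimO_eq_one_of_covBy hcov (hfin _ _ hcov.le)]
      rfl
    rw [this]
    ring

theorem isCatenarySpace_of_dimensionFunction [T0Space X] [QuasiSober X] {δ : X → ℤ}
    (h : PtTop.IsDimensionFunction δ) : PtTop.IsCatenarySpace X := by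
  rw [PtSet.isCatenarySpace_iff]
  refine (catenary_of_grading (fun T : IrreducibleCloseds X => δ T.isIrreducible.genericPoint)
    (fun a b hab => ?_) fun a b hab => ?_).1
  · have hb := b.isIrreducible.isGenericPoint_genericPoint b.isClosed
    have ha := a.isIrreducible.isGenericPoint_genericPoint a.isClosed
    refine h.1 _ _ (hb.specializes (hab.le ha.mem)) fun e => hab.ne ?_
    exact IrreducibleCloseds.ext (ha.def.symm.trans ((congrArg (fun z => closure {z}) e.symm).trans hb.def))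
  · have hb := b.isIrreducible.isGenericPoint_genericPoint b.isClosed
    have ha := a.isIrreducible.isGenericPoint_genericPoint a.isClosed
    refine h.2 _ _ ⟨hb.specializes (hab.le ha.mem), fun e => hab.ne ?_, fun z hbz hza => ?_⟩
    · exact IrreducibleCloseds.ext (ha.def.symm.trans ((congrArg (fun z => closure {z}) e.symm).trans hb.def))
    · have h1 : a ≤ cl z := fun w hw => specializes_iff_mem_closure.1 (hza.trans (ha.specializes hw))
      have h2 : cl z ≤ b := cl_le_iff.2 (hbz.mem_closed b.isClosed hb.mem)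
      rcases hab.eq_or_eq h1 h2 with e | e
      · exact Or.inr (IsGenericPoint.eq (S := (cl z : Set X)) rfl (e ▸ ha))
      · exact Or.inl (IsGenericPoint.eq (S := (cl z : Set X)) rfl (e ▸ hb))

end Groth.Agent.CatenarySch12
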